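import Groth.Agent.AlgSt.K750.LangPt
import Groth.Agent.NonAbH1.K551.H1Cl
import Groth.Agent.NonAbH1.K553.FinConn
import Groth.Agent.Sga3B.MaxTorBc505
import Groth.Agent.S5038

/-!
# Torsors under reductive groups over a henselian local ring with finite residue field

Lang's theorem gives a point of the closed fibre, and points of smooth schemes lift.
-/

set_option autoImplicit false
universe u

open CategoryTheory CategoryTheory.Limits MonoidalCategory CartesianMonoidalCategory MonObj GrpObj AlgebraicGeometry

namespace K201.Fin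

/-- An etale torsor under a smooth group is smooth. -/
theorem smooth {S : Scheme.{u}} {G : Over S} [GrpObj G] [Smooth G.hom] (P : NonAbH1.TorsorSch G Scheme.etalePrecoverage) :
    Smooth P.X.hom :=
  K551.Tors.smooth_of_torsor ⟨P.isTorsor.1, K553.FinConn.isLocallyTrivialFor_fppf_of_etale P.isTorsor.2⟩

/-- An etale torsor surjects onto the base. -/
theorem surjective {S : Scheme.{u}} {G : Over S} [GrpObj G] (P : NonAbH1.TorsorSch G Scheme.etalePrecoverage) :
    Surjective P.X.hom :=
  K551.Tors.surjective_of_torsor ⟨P.isTorsor.1, K553.FinConn.isLocallyTrivialFor_fppf_of_etale P.isTorsor.2⟩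

/-- **Reductive groups over a henselian local ring with finite residue field have no nontrivial torsors.** -/
theorem eq_one (V : Type u) [CommRing V] [HenselianLocalRing V] [Finite (IsLocalRing.ResidueField V)]
    (G : Over (Spec (CommRingCat.of V))) [GrpObj G] (hG : Red.IsReductive G)
    (c : NonAbH1.H1Sch G Scheme.etalePrecoverage) : c = 1 := by
  obtain ⟨P, rfl⟩ := K551.H1Cl.exists_cl c
  rw [K551.H1Cl.cl_eq_one_iff]
  have hs : Smooth G.hom := hG.2.1
  have hP : Smooth P.X.hom := smooth P
  have hPs : Surjective P.X.hom := surjective P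
  let κ := IsLocalRing.ResidueField V
  let y : Spec (CommRingCat.of κ) ⟶ Spec (CommRingCat.of V) := Spec.map (CommRingCat.ofHom (IsLocalRing.residue V))
  have h1 : IsAffineHom G.hom := hG.1
  have h2 : IsAffineHom (Red.bc y G).hom := MorphismProperty.pullback_snd _ _ h1
  have h3 : IsAffine (Red.bc y G).left := isAffine_of_isAffineHom (Red.bc y G).hom
  have h4 : Smooth (Red.bc y G).hom := MorphismProperty.pullback_snd _ _ hs
  have h5 : ConnectedSpace (Red.bc y G).left := Groth.Agent.Sga3B.MaxTorBc505.connectedSpace_bc hG y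
  have h6 : Surjective (Red.bc y P.X).hom := MorphismProperty.pullback_snd _ _ hPs
  have h7 : Nonempty (Red.bc y P.X).left := ⟨(h6.surj (IsLocalRing.closedPoint κ)).choose⟩
  obtain ⟨x⟩ := K750.LangPt.torsor_trivial κ (Red.bc y G) (Red.bc y P.X) (P.act.bc y)
    (NonAbH1.isPseudoTorsorSch_bc y P.isTorsor.1)
  obtain ⟨s, hs⟩ := (K551.H1Cl.hasSectionOver_bc_iff P.X y).1 ⟨x.left, Over.w x⟩
  obtain ⟨t, ht, -⟩ := Groth.Agent.S5038.result V P.X.hom s hs
  exact ⟨t, ht⟩

end K201.Fin
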