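import Groth.Agent.NonAbH1.K950.ParGal
import Groth.Agent.NonAbH1.K551.H1Cl
import Groth.Agent.NonAbH1.K201.Fin

/-!
# Torsors over a normal ring with a point over the fraction field and a point over a Galois covering

`V` a ring, `P` a torsor under `G` over `V`, `x ∈ P(K)`, `e ∈ P(W)`, `L` an algebra over `W` and `K`, `x = h e` with
`h ∈ G(L)`. For an automorphism `σ` of `(W, L)` fixing `K` one has `σ(h) ∈ h G(W)` (`twist`). If `h` comes from `G(W)`,
`P` is affine and `V = K ∩ W`, then `P` has a section (`hasSection`).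
-/

set_option autoImplicit false
set_option linter.unusedSectionVars false
universe u

open CategoryTheory CategoryTheory.Limits MonoidalCategory CartesianMonoidalCategory MonObj GrpObj AlgebraicGeometry
open Groth.Agent.Books.BorelOrb

namespace K201.TorsF

open K950.ParGal K551.Tors

section pts

variable {V W L K : Type u} [CommRing V] [CommRing W] [Algebra V W] [CommRing L] [Algebra W L] [Algebra V L]
  [IsScalarTower V W L] [CommRing K] [Algebra V K] [Algebra K L] [IsScalarTower V K L]
  {G P : Over (Spec (CommRingCat.of V))} [GrpObj G] {a : AlgGrp.Action G P}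

/-- **The transform of `h`.** -/
theorem twist (ha : NonAbH1.IsPseudoTorsorSch a) (x : T V K ⟶ P) (e : T V W ⟶ P) (h : T V L ⟶ G)
    (hh : Tm (IsScalarTower.toAlgHom V K L) ≫ x = sm a h (Tm (IsScalarTower.toAlgHom V W L) ≫ e))
    (s : W →ₐ[V] W) (sL : L →ₐ[V] L) (hs : ∀ w, sL (algebraMap W L w) = algebraMap W L (s w))
    (hK : ∀ k, sL (algebraMap K L k) = algebraMap K L k) :
    Tm sL ≫ h = h * (Tm (IsScalarTower.toAlgHom V W L) ≫ (dif ha (Tm s ≫ e) e)⁻¹) := by
  have h1 : Tm sL ≫ Tm (IsScalarTower.toAlgHom V K L) = Tm (IsScalarTower.toAlgHom V K L) := by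
    rw [Tm_Tm]
    congr 1
    exact AlgHom.ext hK
  have h2 : Tm sL ≫ Tm (IsScalarTower.toAlgHom V W L) = Tm (IsScalarTower.toAlgHom V W L) ≫ Tm s := by
    rw [Tm_Tm, Tm_Tm]
    congr 1
    exact AlgHom.ext hs
  have h3 := congrArg (fun z => Tm sL ≫ z) hh
  simp only [comp_sm] at h3
  rw [← Category.assoc, h1, hh, ← Category.assoc, h2, Category.assoc] at h3
  have h4 : Tm s ≫ e = sm a (dif ha (Tm s ≫ e) e) e := (sm_dif ha _ _).symm
  have h5 := congrArg (fun z => Tm (IsScalarTower.toAlgHom V W L) ≫ z) h4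
  simp only [comp_sm] at h5
  rw [h5, ← mul_sm] at h3
  have h6 := sm_injective ha _ h3
  rw [GrpObj.comp_inv]
  exact eq_mul_inv_of_mul_eq h6.symm

/-- The transporter of the two points. -/
theorem exists_dif (ha : NonAbH1.IsPseudoTorsorSch a) (x : T V K ⟶ P) (e : T V W ⟶ P) :
    ∃ h : T V L ⟶ G, Tm (IsScalarTower.toAlgHom V K L) ≫ x = sm a h (Tm (IsScalarTower.toAlgHom V W L) ≫ e) :=
  ⟨dif ha _ _, (sm_dif ha _ _).symm⟩

omit [GrpObj G] in
/-- **Glueing of points with values in `K` and `W`.** -/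
theorem hasSection [IsAffineHom P.hom] (x : T V K ⟶ P) (y : T V W ⟶ P)
    (hxy : Tm (IsScalarTower.toAlgHom V K L) ≫ x = Tm (IsScalarTower.toAlgHom V W L) ≫ y)
    (hV : Function.Injective (algebraMap V K))
    (hi : ∀ (k : K) (w : W), algebraMap K L k = algebraMap W L w → ∃ v : V, algebraMap V K v = k) :
    NonAbH1.HasSectionOver P (𝟙 _) := by
  have hA : IsAffine P.left := isAffine_of_isAffineHom P.hom
  obtain ⟨B, φ₀, e, he⟩ : ∃ (B : CommRingCat.{u}) (φ₀ : CommRingCat.of V ⟶ B) (e : P.left ≅ Spec B),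
      P.hom = e.hom ≫ Spec.map φ₀ :=
    ⟨Γ(P.left, ⊤), Spec.preimage (P.left.isoSpec.inv ≫ P.hom), P.left.isoSpec, by
      rw [Spec.map_preimage, Iso.hom_inv_id_assoc]⟩
  obtain ⟨ξ, hξ⟩ : ∃ ξ, Spec.map ξ = x.left ≫ e.hom := ⟨_, Spec.map_preimage _⟩
  obtain ⟨ρ, hρ⟩ : ∃ ρ, Spec.map ρ = y.left ≫ e.hom := ⟨_, Spec.map_preimage _⟩
  have h1 : φ₀ ≫ ξ = CommRingCat.ofHom (algebraMap V K) := by
    apply Spec.map_injective
    rw [Spec.map_comp, hξ, Category.assoc, ← he]
    exact Over.w x
  have h2 : ξ ≫ CommRingCat.ofHom (algebraMap K L) = ρ ≫ CommRingCat.ofHom (algebraMap W L) := by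
    apply Spec.map_injective
    rw [Spec.map_comp, Spec.map_comp, hξ, hρ, ← Category.assoc, ← Category.assoc]
    exact congrArg (fun z => z.left ≫ e.hom) hxy
  have h3 : ∀ b : B, ∃ v : V, algebraMap V K v = ξ.hom b := fun b =>
    hi _ (ρ.hom b) (congrArg (fun z => z.hom b) h2)
  choose ζ₀ hζ using h3
  let ζ : B →+* V :=
    { toFun := ζ₀
      map_one' := hV (by rw [hζ, _root_.map_one, _root_.map_one])
      map_mul' := fun a b => hV (by rw [hζ, _root_.map_mul, _root_.map_mul, hζ, hζ])
      map_zero' := hV (by rw [hζ, _root_.map_zero, _root_.map_zero])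
      map_add' := fun a b => hV (by rw [hζ, _root_.map_add, _root_.map_add, hζ, hζ]) }
  refine ⟨Spec.map (CommRingCat.ofHom ζ) ≫ e.inv, ?_⟩
  rw [he, Category.assoc, Iso.inv_hom_id_assoc, ← Spec.map_comp]
  have h4 : φ₀ ≫ CommRingCat.ofHom ζ = 𝟙 _ := by
    ext v
    apply hV
    exact (hζ _).trans (congrArg (fun z => z.hom v) h1)
  rw [h4, Spec.map_id]

end pts

section main

variable {V : Type u} [CommRing V] [IsDomain V] {G : Over (Spec (CommRingCat.of V))} [GrpObj G]

/-- an automorphism of `L` over `V` is the identity on the fractions -/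
theorem sL_frac {L : Type u} [CommRing L] [Algebra V L] [Algebra (FractionRing V) L] [IsScalarTower V (FractionRing V) L]
    (sL : L →ₐ[V] L) (k : FractionRing V) : sL (algebraMap (FractionRing V) L k) = algebraMap (FractionRing V) L k := by
  have h : (sL : L →+* L).comp (algebraMap (FractionRing V) L) = algebraMap (FractionRing V) L := by
    apply IsLocalization.ringHom_ext (nonZeroDivisors V)
    rw [RingHom.comp_assoc, ← IsScalarTower.algebraMap_eq]
    exact sL.comp_algebraMap
  exact congrArg (fun f => f k) h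

variable (L : Type u) [Field L] [Algebra V L] [Algebra (FractionRing V) L] [IsScalarTower V (FractionRing V) L]

/-- **The reduction of the triviality of a torsor which is trivial over the fraction field** to a statement on the
points of `G` over `L`, for a point of the torsor over the integral closure `W` of `V` in `L`. -/
theorem hasSection_of [IsIntegrallyClosed V] [IsAffineHom G.hom] (P : NonAbH1.TorsorSch G Scheme.etalePrecoverage)
    (hP : NonAbH1.HasSectionOver P.X (Spec.map (CommRingCat.ofHom (algebraMap V (FractionRing V)))))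
    (hW : NonAbH1.HasSectionOver P.X (Spec.map (CommRingCat.ofHom (algebraMap V (integralClosure V L)))))
    (H : ∀ h : T V L ⟶ G, (∀ σ : Aut2 V (integralClosure V L) L, ∃ w : T V (integralClosure V L) ⟶ G,
      Tm (σ.sL : L →ₐ[V] L) ≫ h = h * (Tm (IsScalarTower.toAlgHom V (integralClosure V L) L) ≫ w)) →
        ∃ h₀ : T V (integralClosure V L) ⟶ G, h = Tm (IsScalarTower.toAlgHom V (integralClosure V L) L) ≫ h₀) :
    NonAbH1.HasSectionOver P.X (𝟙 _) := by
  obtain ⟨x, hx⟩ := hP
  obtain ⟨e, he⟩ := hW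
  let x' : T V (FractionRing V) ⟶ P.X := Over.homMk x hx
  let e' : T V (integralClosure V L) ⟶ P.X := Over.homMk e he
  obtain ⟨h, hh⟩ := exists_dif (L := L) P.isTorsor.1 x' e'
  obtain ⟨h₀, hh₀⟩ := H h fun σ => ⟨_, twist P.isTorsor.1 x' e' h hh
    (σ.s : integralClosure V L →ₐ[V] integralClosure V L) (σ.sL : L →ₐ[V] L) (fun w => σ.compat w)
    (sL_frac (σ.sL : L →ₐ[V] L))⟩
  have hA : IsAffineHom P.X.hom :=
    isAffineHom_of_torsor ⟨P.isTorsor.1, K553.FinConn.isLocallyTrivialFor_fppf_of_etale P.isTorsor.2⟩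
  refine hasSection (W := integralClosure V L) (L := L) x' (sm P.act h₀ e') ?_ (IsFractionRing.injective V _) ?_
  · rw [hh, hh₀, comp_sm]
  · intro k w hkw
    have h1 : IsIntegral V (algebraMap (FractionRing V) L k) := by
      rw [hkw]
      exact w.2
    have h2 : IsIntegral V k := (isIntegral_algebraMap_iff (algebraMap (FractionRing V) L).injective).1 h1
    exact IsIntegrallyClosed.isIntegral_iff.1 h2

/-- **The same for a class.** -/
theorem eq_one_of [IsIntegrallyClosed V] [Smooth G.hom] [IsAffineHom G.hom] (c : NonAbH1.H1Sch G Scheme.etalePrecoverage)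
    (hc : NonAbH1.H1Sch.bcMap (Spec.map (CommRingCat.ofHom (algebraMap V (FractionRing V)))) G
      Scheme.etalePrecoverage c = 1)
    (H : ∀ E : Over (Spec (CommRingCat.of V)), Smooth E.hom → Surjective E.hom →
      ∃ (L : Type u) (_ : Field L) (_ : Algebra V L) (_ : Algebra (FractionRing V) L)
        (_ : IsScalarTower V (FractionRing V) L),
        NonAbH1.HasSectionOver E (Spec.map (CommRingCat.ofHom (algebraMap V (integralClosure V L)))) ∧
        ∀ h : T V L ⟶ G, (∀ σ : Aut2 V (integralClosure V L) L, ∃ w : T V (integralClosure V L) ⟶ G,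
          Tm (σ.sL : L →ₐ[V] L) ≫ h = h * (Tm (IsScalarTower.toAlgHom V (integralClosure V L) L) ≫ w)) →
            ∃ h₀ : T V (integralClosure V L) ⟶ G, h = Tm (IsScalarTower.toAlgHom V (integralClosure V L) L) ≫ h₀) :
    c = 1 := by
  obtain ⟨P, rfl⟩ := K551.H1Cl.exists_cl c
  rw [K551.H1Cl.cl_eq_one_iff]
  rw [K551.H1Cl.bcMap_cl_eq_one_iff] at hc
  obtain ⟨L, _, _, _, _, hW, H1⟩ := H P.X (K201.Fin.smooth P) (K201.Fin.surjective P)
  exact hasSection_of L P hc hW H1

/-- an automorphism of `L` over `V` restricts to the integral closure -/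
theorem exists_aut2 (sL : L ≃ₐ[V] L) : ∃ σ : Aut2 V (integralClosure V L) L, σ.sL = sL :=
  ⟨{ s := sL.mapIntegralClosure
     sL := sL
     compat := fun _ => rfl }, rfl⟩

end main

/-- **The torsor, its point over a Galois covering and the transporter `h`.** -/
theorem exists_h (V : Type u) [CommRing V] [IsDomain V] [ValuationRing V] {G : Over (Spec (CommRingCat.of V))} [GrpObj G]
    (hG : Red.IsReductive G) (c : NonAbH1.H1Sch G Scheme.etalePrecoverage)
    (hc : NonAbH1.H1Sch.bcMap (Spec.map (CommRingCat.ofHom (algebraMap V (FractionRing V)))) G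
      Scheme.etalePrecoverage c = 1) :
    ∃ E : Over (Spec (CommRingCat.of V)), Smooth E.hom ∧ Surjective E.hom ∧
      ∀ (L : Type u) [Field L] [Algebra (FractionRing V) L] [Algebra V L] [IsScalarTower V (FractionRing V) L]
        [FiniteDimensional (FractionRing V) L] [IsGalois (FractionRing V) L]
        (s : Spec (CommRingCat.of (integralClosure V L)) ⟶ E.left), s ≫ E.hom = fW V (integralClosure V L) →
        ∃ h : T V L ⟶ G, (∀ g : L ≃ₐ[FractionRing V] L, ∃ w : T V (integralClosure V L) ⟶ G,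
          Tm ((g.restrictScalars V : L ≃ₐ[V] L) : L →ₐ[V] L) ≫ h =
            h * (Tm (IsScalarTower.toAlgHom V (integralClosure V L) L) ≫ w)) ∧
          ((∃ h' : T V (integralClosure V L) ⟶ G, Tm (IsScalarTower.toAlgHom V (integralClosure V L) L) ≫ h' = h) →
            c = 1) := by
  obtain ⟨P, rfl⟩ := K551.H1Cl.exists_cl c
  rw [K551.H1Cl.bcMap_cl_eq_one_iff] at hc
  have hs : Smooth G.hom := hG.2.1
  have ha : IsAffineHom G.hom := hG.1
  refine ⟨P.X, K201.Fin.smooth P, K201.Fin.surjective P, fun L _ _ _ _ _ _ e he => ?_⟩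
  obtain ⟨x, hx⟩ := hc
  let x' : T V (FractionRing V) ⟶ P.X := Over.homMk x hx
  let e' : T V (integralClosure V L) ⟶ P.X := Over.homMk e he
  obtain ⟨h, hh⟩ := exists_dif (L := L) P.isTorsor.1 x' e'
  refine ⟨h, fun g => ?_, ?_⟩
  · obtain ⟨σ, hσ⟩ := exists_aut2 L (g.restrictScalars V : L ≃ₐ[V] L)
    refine ⟨_, twist P.isTorsor.1 x' e' h hh (σ.s : integralClosure V L →ₐ[V] integralClosure V L)
      ((g.restrictScalars V : L ≃ₐ[V] L) : L →ₐ[V] L) (fun w => ?_) (sL_frac _)⟩
    rw [← hσ]
    exact σ.compat w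
  · rintro ⟨h₀, hh₀⟩
    rw [K551.H1Cl.cl_eq_one_iff]
    have hA : IsAffineHom P.X.hom :=
      isAffineHom_of_torsor ⟨P.isTorsor.1, K553.FinConn.isLocallyTrivialFor_fppf_of_etale P.isTorsor.2⟩
    refine hasSection (W := integralClosure V L) (L := L) x' (sm P.act h₀ e') ?_ (IsFractionRing.injective V _) ?_
    · rw [hh, ← hh₀, comp_sm]
    · intro k w hkw
      have h1 : IsIntegral V (algebraMap (FractionRing V) L k) := by
        rw [hkw]
        exact w.2
      have h2 : IsIntegral V k := (isIntegral_algebraMap_iff (algebraMap (FractionRing V) L).injective).1 h1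
      exact IsIntegrallyClosed.isIntegral_iff.1 h2

end K201.TorsF
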